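import Cfsg.Agent.H389.NR.Fr
import Cfsg.Agent.H992.Stages.Mathieu
import Cfsg.Agent.SporadicA.M11Facts
import Cfsg.Agent.Schreier.MEleven

/-!
# S3440: `M₁₁`, `M₂₂`, `M₂₃` do not have the element orders of a nonsolvable Frobenius group (helper36)

No element of order 10.
-/

set_option autoImplicit false

namespace Cfsg.Agent.H36.NR

open Subgroup
open Cfsg.Agent.H389.NR (Fr)

/-- no element of order `2 p` when `p` does not divide the orders of the centralizers of involutions -/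
theorem not_has_of_cent {X : Type*} [Group X] [Finite X] {p : ℕ} (hp : p.Prime)
    (h : ∀ t : X, orderOf t = 2 → ¬ p ∣ Nat.card (centralizer ({t} : Set X))) : ¬ ∃ x : X, orderOf x = 2 * p := by
  rintro ⟨x, hx⟩
  have h2 : orderOf (x ^ p) = 2 := by
    rw [orderOf_pow' _ hp.ne_zero, hx, Nat.gcd_eq_right (Dvd.intro_left 2 rfl), Nat.mul_div_cancel _ hp.pos]
  have h5 : orderOf (x ^ 2) = p := by
    rw [orderOf_pow' _ (by norm_num), hx, Nat.gcd_eq_right (Dvd.intro p rfl), Nat.mul_div_cancel_left _ (by norm_num)]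
  refine h _ h2 ?_
  have hm : x ^ 2 ∈ centralizer ({x ^ p} : Set X) := by
    rw [mem_centralizer_singleton_iff]
    exact ((Commute.refl x).pow_pow 2 p).eq
  have h6 := orderOf_dvd_natCard (⟨x ^ 2, hm⟩ : centralizer ({x ^ p} : Set X))
  rwa [Subgroup.orderOf_mk, h5] at h6

theorem isM11 : Cfsg.IsM11 Cfsg.Spor.M11 := by
  have h := Cfsg.Agent.Schreier.MEleven.isM11
  refine ⟨?_, ?_⟩
  · have := h.1
    exact (Cfsg.Agent.Schreier.MEleven.equiv).symm.isSimpleGroup
  · rw [← h.2]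
    exact Nat.card_congr (Cfsg.Agent.Schreier.MEleven.equiv).symm.toEquiv

theorem fr_m11 {L : Type*} [Group L] [Finite L] (h : Cfsg.Spor.IsoM11 L) : ¬ Fr L := fun H => by
  obtain ⟨e⟩ := h
  have h1 := (H.congr e).ten
  have hf : Finite Cfsg.Spor.M11 := Finite.of_equiv _ e.toEquiv
  exact not_has_of_cent (X := Cfsg.Spor.M11) (p := 5) (by norm_num)
    (fun t ht => Cfsg.Agent.SporadicA.M11Facts.not_five_dvd_centralizer isM11 ht) h1

theorem fr_m22 {L : Type*} [Group L] [Finite L] (h : Cfsg.Spor.IsoM22 L) : ¬ Fr L := fun H => by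
  obtain ⟨e⟩ := h
  refine not_has_of_cent (X := Cfsg.Spor.M22) (p := 5) (by norm_num) (fun t ht => ?_) (H.congr e).ten
  rw [Cfsg.Agent.H992.Stages.card_cent_m22 ht]
  norm_num

theorem fr_m23 {L : Type*} [Group L] [Finite L] (h : Cfsg.Spor.IsoM23 L) : ¬ Fr L := fun H => by
  obtain ⟨e⟩ := h
  refine not_has_of_cent (X := Cfsg.Spor.M23) (p := 5) (by norm_num) (fun t ht => ?_) (H.congr e).ten
  rw [Cfsg.Agent.H992.Stages.card_cent_m23 ht]
  norm_num

end Cfsg.Agent.H36.NR
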