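import Cfsg.Agent.H389.NR.Fr
import Cfsg.Agent.H893.Rec.M12Facts

/-!
# S3440: `M₁₂` has an element of order 8, but none of order 12 (helper36)
-/

set_option autoImplicit false

namespace Cfsg.Agent.H36.NR

open Cfsg.Agent.H389.NR (Fr)

theorem fr_m12 {L : Type*} [Group L] [Finite L] (h : Cfsg.Spor.IsoM12 L) : ¬ Fr L := fun H => by
  obtain ⟨T, c, -, -, -, hc, -⟩ := Cfsg.Agent.H893.Rec.hasFrob_m12 h
  have h12 := Cfsg.Agent.H893.Rec.ord_mem h (n := 12) (H.twelve ⟨c, hc⟩)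
  revert h12
  decide

end Cfsg.Agent.H36.NR
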